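import Cfsg.Agent.H853.FiK.Cnt
import Cfsg.Agent.SporRec.Fi23Perm

/-!
# `Fi₂₃`: words in the generators and the numbers of points moved by their powers 1, 2, 3, 4, 6 (helper853)
-/

set_option autoImplicit false

namespace Cfsg.Agent.H853.FiK.Fi23

open Cfsg.Agent.Lib.PermNet Cfsg.Agent.SporRec.Fi23Perm Cfsg.Agent.SporRec.Fi23Rel

/-- an entry: a word and five numbers -/
structure Ent where
  /-- the word -/
  w : List Gen
  /-- points moved by the word -/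
  m1 : ℕ
  /-- points moved by the square -/
  m2 : ℕ
  /-- points moved by the cube -/
  m3 : ℕ
  /-- points moved by the fourth power -/
  m4 : ℕ
  /-- points moved by the sixth power -/
  m6 : ℕ

/-- the check of an entry -/
noncomputable def Ent.chk (e : Ent) : Bool := chk5 15 (e.w.map net) e.m1 e.m2 e.m3 e.m4 e.m6

/-- the check of a list of entries -/
noncomputable def chkAll (l : List Ent) : Bool := List.rec true (fun e _ ih => and e.chk ih) l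

theorem chkAll_spec {l : List Ent} (h : chkAll l = true) : ∀ e ∈ l, e.chk = true := by
  induction l with
  | nil => intro e he; exact absurd he (by simp)
  | cons x l ih =>
    have h' : and x.chk (chkAll l) = true := h
    rw [Bool.and_eq_true] at h'
    intro e he
    rcases List.mem_cons.1 he with rfl | he
    · exact h'.1
    · exact ih h'.2 e he

/-- entries -/
def L0 : List Ent :=
  [⟨[], 0, 0, 0, 0, 0⟩,
   ⟨[.h], 28160, 0, 28160, 0, 0⟩,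
   ⟨[.f, .g], 31320, 31320, 0, 31320, 0⟩,
   ⟨[.h, .j], 30976, 0, 30976, 0, 0⟩,
   ⟨[.f, .g, .b], 31544, 31320, 28160, 31320, 0⟩,
   ⟨[.f, .g, .j], 31608, 30976, 31608, 0, 30976⟩,
   ⟨[.h, .j, .b], 31488, 0, 31488, 0, 0⟩]

/-- entries -/
def L1 : List Ent :=
  [⟨[.b, .e, .a, .h], 31624, 31320, 30976, 31320, 0⟩,
   ⟨[.e, .c, .d, .b], 31650, 31650, 31650, 31650, 31650⟩,
   ⟨[.g, .b, .c, .j], 31536, 31536, 0, 31536, 0⟩,
   ⟨[.h, .c, .d, .e], 31656, 31320, 31488, 31320, 0⟩]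

/-- entries -/
def L2 : List Ent :=
  [⟨[.j, .c, .d, .b], 31640, 30976, 31640, 0, 30976⟩,
   ⟨[.e, .b, .c, .d, .h], 31664, 31632, 31664, 31488, 31632⟩,
   ⟨[.g, .b, .c, .j, .e], 31634, 31536, 28160, 31536, 0⟩]

/-- entries -/
def L3 : List Ent :=
  [⟨[.g, .f, .c, .e, .d], 31656, 31536, 31488, 31536, 0⟩,
   ⟨[.h, .d, .i, .c, .b], 31626, 31536, 31488, 31536, 0⟩,
   ⟨[.j, .c, .d, .b, .a], 31660, 31650, 31660, 31650, 31650⟩]

/-- entries -/
def L4 : List Ent :=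
  [⟨[.j, .g, .d, .e, .c], 31656, 31624, 31608, 31320, 30976⟩,
   ⟨[.a, .b, .e, .g, .f, .d], 31665, 31665, 31650, 31665, 31650⟩]

/-- entries -/
def L5 : List Ent :=
  [⟨[.a, .e, .b, .j, .f, .h], 31660, 31536, 30976, 31536, 0⟩,
   ⟨[.b, .e, .a, .h, .f, .i], 31644, 31644, 0, 31644, 0⟩]

/-- entries -/
def L6 : List Ent :=
  [⟨[.e, .b, .c, .d, .h, .f], 31668, 31668, 31632, 31644, 31488⟩,
   ⟨[.f, .h, .c, .i, .e, .d], 31659, 31659, 31632, 31347, 31488⟩]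

/-- entries -/
def L7 : List Ent :=
  [⟨[.g, .f, .c, .e, .d, .h], 31666, 31650, 31666, 31650, 31650⟩,
   ⟨[.h, .g, .a, .d, .i, .f], 31664, 31624, 31640, 31320, 30976⟩]

/-- entries -/
def L8 : List Ent :=
  [⟨[.h, .i, .c, .e, .d, .b], 31659, 31635, 31632, 31347, 31488⟩,
   ⟨[.i, .h, .f, .e, .d, .g], 31661, 31661, 31661, 31661, 31661⟩]

/-- entries -/
def L9 : List Ent :=
  [⟨[.j, .c, .d, .b, .a, .e], 31662, 31536, 31488, 31536, 0⟩,
   ⟨[.j, .f, .i, .h, .g, .d], 31632, 31488, 31632, 0, 31488⟩]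

/-- entries -/
def L10 : List Ent :=
  [⟨[.a, .e, .b, .j, .f, .h, .d], 31669, 31665, 31660, 31665, 31650⟩,
   ⟨[.b, .d, .i, .j, .c, .h, .e], 31667, 31635, 31664, 31347, 31488⟩]

/-- entries -/
def L11 : List Ent :=
  [⟨[.b, .e, .d, .f, .j, .c, .h], 31670, 31668, 31664, 31644, 31488⟩,
   ⟨[.b, .f, .c, .i, .h, .g, .e], 31668, 31660, 31608, 31536, 30976⟩]

/-- entries -/
def L12 : List Ent :=
  [⟨[.b, .g, .d, .h, .c, .a, .j], 31668, 31644, 31488, 31644, 0⟩,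
   ⟨[.c, .e, .h, .i, .a, .d, .b], 31653, 31653, 31347, 31653, 31347⟩]

/-- entries -/
def L13 : List Ent :=
  [⟨[.d, .e, .b, .h, .a, .f, .c], 31668, 31668, 31644, 31668, 31644⟩,
   ⟨[.d, .h, .g, .e, .b, .c, .f], 31670, 31668, 31670, 31668, 31644⟩]

/-- entries -/
def L14 : List Ent :=
  [⟨[.e, .c, .d, .b, .g, .h, .j], 31670, 31668, 31664, 31656, 31632⟩,
   ⟨[.e, .f, .i, .b, .a, .d, .h], 31662, 31644, 31488, 31644, 0⟩]

/-- entries -/
def L15 : List Ent :=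
  [⟨[.f, .h, .c, .i, .e, .d, .b], 31667, 31653, 31643, 31653, 31347⟩,
   ⟨[.f, .j, .b, .i, .d, .a, .c], 31668, 31650, 31668, 31650, 31650⟩]

/-- entries -/
def L16 : List Ent :=
  [⟨[.g, .d, .b, .e, .j, .a, .i], 31670, 31644, 28160, 31644, 0⟩,
   ⟨[.h, .g, .a, .d, .i, .f, .j], 31664, 31488, 31664, 0, 31488⟩]

/-- entries -/
def L17 : List Ent :=
  [⟨[.h, .i, .j, .e, .c, .f, .d], 31667, 31659, 31664, 31347, 31488⟩,
   ⟨[.i, .f, .c, .d, .g, .j, .h], 31668, 31666, 31668, 31650, 31666⟩]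

/-- entries -/
def L18 : List Ent :=
  [⟨[.j, .a, .i, .d, .c, .b, .h], 31667, 31661, 31667, 31661, 31661⟩,
   ⟨[.b, .f, .i, .a, .d, .g, .h, .c], 31670, 31670, 31661, 31670, 31661⟩]

/-- entries -/
def L19 : List Ent :=
  [⟨[.b, .g, .c, .j, .h, .f, .e, .i], 31671, 31671, 31650, 31671, 31650⟩,
   ⟨[.c, .h, .a, .f, .e, .g, .i, .j], 31669, 31665, 31666, 31665, 31650⟩]

/-- entries -/
def L20 : List Ent :=
  [⟨[.d, .b, .g, .f, .c, .i, .h, .e], 31668, 31668, 31668, 31668, 31668⟩,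
   ⟨[.f, .g, .e, .a, .b, .i, .c, .h], 31668, 31656, 31632, 31320, 31488⟩]

/-- entries -/
def L21 : List Ent :=
  [⟨[.f, .i, .h, .d, .g, .c, .a, .e], 31669, 31653, 31651, 31653, 31347⟩,
   ⟨[.h, .g, .a, .d, .i, .f, .j, .c], 31670, 31666, 31670, 31650, 31666⟩]

/-- entries -/
def L22 : List Ent :=
  [⟨[.i, .e, .h, .g, .j, .a, .c, .b], 31670, 31660, 31640, 31536, 30976⟩,
   ⟨[.j, .i, .f, .e, .d, .b, .c, .a], 31669, 31661, 31669, 31661, 31661⟩]

/-- entries -/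
def L23 : List Ent :=
  [⟨[.a, .e, .b, .c, .h, .f, .i, .j, .d], 31670, 31668, 31670, 31668, 31668⟩]

/-- entries -/
def L24 : List Ent :=
  [⟨[.d, .f, .a, .h, .g, .e, .b, .j, .c], 31671, 31671, 31671, 31671, 31671⟩]

/-- entries -/
def L25 : List Ent :=
  [⟨[.f, .g, .e, .a, .b, .i, .c, .h, .j], 31671, 31669, 31668, 31665, 31666⟩]

/-- entries -/
def L26 : List Ent :=
  [⟨[.h, .g, .a, .d, .i, .f, .j, .c, .b], 31671, 31669, 31671, 31661, 31669⟩]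

/-- entries -/
def L27 : List Ent :=
  [⟨[.i, .a, .d, .j, .c, .e, .h, .b, .g], 31671, 31671, 31347, 31671, 31347⟩]

/-- entries -/
def L28 : List Ent :=
  [⟨[.e, .c, .d, .i, .b, .f, .h, .e, .d, .f], 31666, 31662, 31651, 31662, 31347⟩]

/-- entries -/
def L29 : List Ent :=
  [⟨[.d, .j, .f, .h, .d, .e, .i, .h, .b, .d, .c], 31668, 31662, 31659, 31662, 31347⟩]

/-- entries -/
def L30 : List Ent :=
  [⟨[.g, .e, .d, .c, .i, .a, .f, .b, .h, .d, .c], 31669, 31669, 31669, 31669, 31669⟩]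

/-- entries -/
def L31 : List Ent :=
  [⟨[.d, .c, .f, .a, .e, .d, .e, .c, .j, .b, .h, .g], 31671, 31671, 31668, 31671, 31650⟩]

/-- entries -/
def L32 : List Ent :=
  [⟨[.g, .e, .d, .c, .i, .a, .f, .b, .h, .d, .c, .b], 31670, 31656, 31664, 31536, 31488⟩]

/-- entries -/
def L33 : List Ent :=
  [⟨[.b, .h, .f, .d, .i, .e, .g, .f, .h, .a, .d, .j, .c, .e, .g], 31671, 31671, 31668, 31671, 31668⟩]

/-- entries -/
def L34 : List Ent :=
  [⟨[.e, .h, .i, .d, .j, .a, .c, .e, .h, .b, .d, .a, .c, .i, .d], 31659, 31347, 31488, 31347, 0⟩]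

/-- entries -/
def L35 : List Ent :=
  [⟨[.b, .g, .e, .a, .h, .b, .c, .i, .d, .c, .g, .h, .e, .i, .f, .d, .a], 31668, 31656, 31632, 31536, 31488⟩]

/-- entries -/
def L36 : List Ent :=
  [⟨[.b, .a, .h, .a, .c, .i, .f, .d, .e, .a, .f, .h, .c, .d, .c, .g, .e, .d], 31670, 31668, 31670, 31664, 31668⟩]

/-- entries -/
def L37 : List Ent :=
  [⟨[.c, .b, .d, .a, .e, .b, .c, .f, .b, .e, .d, .f, .h, .g, .e, .f, .e, .g], 31668, 31664, 31668, 31488, 31664⟩]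

/-- entries -/
def L38 : List Ent :=
  [⟨[.j, .b, .e, .d, .f, .i, .a, .h, .c, .g, .e, .b, .d, .i, .c, .d, .f, .i], 31671, 31671, 31659, 31671, 31347⟩]

/-- entries -/
def L39 : List Ent :=
  [⟨[.b, .e, .j, .c, .d, .e, .h, .c, .i, .h, .d, .h, .d, .j, .d, .e, .d, .f, .c], 31664, 31662, 31643, 31662, 31347⟩]

/-- entries -/
def L40 : List Ent :=
  [⟨[.b, .g, .d, .e, .f, .i, .h, .c, .b, .d, .c, .d, .e, .i, .h, .a, .f, .b, .e], 31670, 31670, 31667, 31670, 31661⟩]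

/-- entries -/
def L41 : List Ent :=
  [⟨[.d, .c, .e, .f, .d, .b, .c, .b, .h, .f, .a, .d, .c, .e, .f, .i, .a, .b, .c], 31635, 31347, 31488, 31347, 0⟩]

/-- entries -/
def L42 : List Ent :=
  [⟨[.d, .e, .d, .h, .c, .d, .i, .f, .e, .c, .a, .d, .b, .h, .i, .b, .h, .e, .c], 31651, 31347, 30976, 31347, 0⟩]

/-- entries -/
def L43 : List Ent :=
  [⟨[.j, .b, .e, .d, .f, .i, .a, .h, .c, .g, .e, .b, .d, .i, .c, .d, .f, .i, .a], 31671, 31671, 31659, 31671, 31659⟩]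

/-- entries -/
def L44 : List Ent :=
  [⟨[.b, .c, .h, .e, .b, .f, .a, .b, .c, .d, .g, .i, .e, .d, .c, .j, .h, .i, .d, .a], 31671, 31669, 31671, 31653, 31651⟩]

/-- entries -/
def L45 : List Ent :=
  [⟨[.i, .e, .h, .d, .c, .e, .h, .d, .e, .h, .g, .a, .b, .a, .b, .i, .c, .j, .h, .f, .g, .b, .d, .f, .c], 31671, 31667, 31668, 31635, 31664⟩]

/-- entries -/
def L46 : List Ent :=
  [⟨[.j, .f, .c, .g, .a, .d, .g, .c, .a, .b, .h, .d, .e, .i, .g, .f, .d, .e, .a, .h, .c, .d, .i, .c, .e, .b], 31671, 31651, 31608, 31347, 30976⟩]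

end Cfsg.Agent.H853.FiK.Fi23
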